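import Cfsg.Agent.H844.K5.Base
import Cfsg.Agent.H684.CoverCount
import Cfsg.Agent.H684.BlockTools
import Cfsg.Agent.Characters.Linear
import Cfsg.Agent.Characters.Clifford
import Cfsg.Agent.Blocks.Blau
import Cfsg.Agent.S4614
import Cfsg.Agent.S4646
import Cfsg.Agent.S0907
import Cfsg.Agent.S0941

/-!
# S4874, `p = 2`, T8 RED-C: a simple normal subgroup has odd index (helper270)
-/

set_option autoImplicit false

namespace Cfsg.Agent.H270.K5

open Cfsg Subgroup Cfsg.Agent.H844.K5 Cfsg.Agent.H684.BlockTools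
open scoped ComplexConjugate

universe u

section

variable {G : Type u} [Group G] [Finite G] {M : Ideal AlgInt}

/-- a 2-nilpotent group of even order has a subgroup of index 2 -/
theorem exists_index_two (h : HasNormalPComplement 2 G) (h2 : 2 ∣ Nat.card G) : ∃ H : Subgroup G, H.index = 2 := by
  have : Fact (Nat.Prime 2) := ⟨Nat.prime_two⟩
  obtain ⟨P, N, hN, hc⟩ := h
  obtain ⟨a, ha⟩ := P.2.exists_card_eq
  have h1 : N.index = 2 ^ a := by rw [hc.symm.index_eq_card, ha]
  have h3 : a ≠ 0 := by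
    rintro rfl
    have h4 := P.dvd_card_of_dvd_card h2
    rw [ha] at h4
    exact absurd (Nat.dvd_one.1 h4) (by norm_num)
  obtain ⟨b, rfl⟩ : ∃ b, a = b + 1 := ⟨a - 1, by omega⟩
  have h4 : Nat.card (G ⧸ N) = 2 ^ (b + 1) := h1
  obtain ⟨K, hK⟩ := Sylow.exists_subgroup_card_pow_prime 2 (G := G ⧸ N) (n := b) (by rw [h4]; exact pow_dvd_pow 2 (Nat.le_succ b))
  refine ⟨K.comap (QuotientGroup.mk' N), ?_⟩
  rw [index_comap_of_surjective _ (QuotientGroup.mk'_surjective N)]
  have h5 := K.card_mul_index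
  rw [hK, h4, pow_succ] at h5
  exact Nat.eq_of_mul_eq_mul_left (by positivity) h5

/-- at most two characters in the principal block, even order: 2-nilpotent -/
theorem compl_of_le_two (hM : IsPModular 2 M) (h2 : 2 ∣ Nat.card G) (hk : Nat.card (principalBlock M G) ≤ 2) :
    HasNormalPComplement 2 G := by
  classical
  have : Fact (Nat.Prime 2) := ⟨Nat.prime_two⟩
  obtain ⟨x, hx⟩ := exists_prime_orderOf_dvd_card' 2 h2
  have hx1 : x ≠ 1 := by
    rintro rfl
    rw [orderOf_one] at hx
    omega
  have h1 := H634.TwoA.sum_rank_le (p := 2) (G := G) hM ({1, x} : Finset G)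
    (by
      intro z hz
      simp only [Finset.mem_insert, Finset.mem_singleton] at hz
      rcases hz with rfl | rfl
      · exact ⟨0, by simp⟩
      · exact ⟨1, by rw [hx, pow_one]⟩)
    (by
      intro z hz w hw hc
      simp only [Finset.mem_insert, Finset.mem_singleton] at hz hw
      rcases hz with rfl | rfl <;> rcases hw with rfl | rfl
      · rfl
      · exact (isConj_one_right.1 hc).symm
      · exact isConj_one_left.1 hc
      · rfl)
  rw [Finset.sum_pair hx1.symm, H634.TwoA.rank_one_eq hM] at h1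
  have := Fintype.ofFinite G
  have h3 := H634.Cols.blockRank_pos (G := ↥(centralizer ({x} : Set G))) hM
  have h4 := H634.Cols.blockRank_pos (G := G) hM
  exact S4646.compl_of_rank_one hM (by omega)

end

section

variable {S : Type u} [Group S] [Finite S] {M : Ideal AlgInt}

theorem int_of_mul {d : ℕ} {α : ℂ} (hα : IsIntegral ℤ α) (h : 1 + (d : ℂ) * α = 0) : d = 1 := by
  have hd : (d : ℂ) ≠ 0 := by
    rintro h0
    rw [h0, zero_mul, add_zero] at h
    exact one_ne_zero h
  have h1 : α = algebraMap ℚ ℂ (-1 / (d : ℚ)) := by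
    have h2 : α = -1 / (d : ℂ) := by
      field_simp
      linear_combination h
    rw [h2]
    simp
  rw [h1, isIntegral_algebraMap_iff (algebraMap ℚ ℂ).injective] at hα
  obtain ⟨n, hn⟩ := (IsIntegrallyClosed.isIntegral_iff (R := ℤ) (K := ℚ)).1 hα
  have hd' : (d : ℚ) ≠ 0 := by exact_mod_cast hd
  have h3 : (n : ℚ) * d = -1 := by
    have h4 : (n : ℚ) = -1 / d := by simpa using hn
    rw [h4]
    field_simp
  have h4 : n * (d : ℤ) = -1 := by exact_mod_cast h3
  have h5 : (d : ℤ) ∣ 1 := ⟨-n, by linear_combination h4⟩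
  exact_mod_cast Int.eq_one_of_dvd_one (by positivity) h5

/-- all nontrivial characters in the principal block have the same degree `d`: then `d = 1` -/
theorem degree_one (hM : IsPModular 2 M) {x : S} (hx : 2 ∣ orderOf x) (d : ℕ)
    (hd : ∀ θ ∈ principalBlock M S, θ ≠ triv S → (θ : S → ℂ) 1 = d) :
    d = 1 ∧ ∃ θ ∈ principalBlock M S, θ ≠ triv S := by
  classical
  have : Fact (Nat.Prime 2) := ⟨Nat.prime_two⟩
  have hfin : Finite (IrrCharacter S) := Characters.Core.finite_irr
  have h0 := S0907.result 2 M hM (principalBlock M S) isPBlock_principal 1 x (by simp) hx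
  have hB : (principalBlock M S).Finite := Set.toFinite _
  rw [finsum_mem_eq_finite_toFinset_sum _ hB] at h0
  have ht : triv S ∈ hB.toFinset := by rw [Set.Finite.mem_toFinset]; exact triv_mem hM
  rw [← Finset.add_sum_erase _ _ ht] at h0
  have h1 : ((triv S : IrrCharacter S) : S → ℂ) 1 * conj (((triv S : IrrCharacter S) : S → ℂ) x) = 1 := by
    show (1 : ℂ) * conj (1 : ℂ) = 1
    simp
  have h2 : ∑ θ ∈ hB.toFinset.erase (triv S), (θ : S → ℂ) 1 * conj ((θ : S → ℂ) x) =
      (d : ℂ) * ∑ θ ∈ hB.toFinset.erase (triv S), conj ((θ : S → ℂ) x) := by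
    rw [Finset.mul_sum]
    refine Finset.sum_congr rfl fun θ hθ => ?_
    rw [Finset.mem_erase, Set.Finite.mem_toFinset] at hθ
    rw [hd θ hθ.2 hθ.1]
  rw [h1, h2] at h0
  refine ⟨int_of_mul ?_ h0, ?_⟩
  · refine IsIntegral.sum _ fun θ _ => ?_
    rw [← Characters.Core.isCharacter_apply_inv (Characters.Core.isIrr_isCharacter θ.2)]
    exact Blocks.Blau.isIntegral_of_isCharacter (Characters.Core.isIrr_isCharacter θ.2) _
  · by_contra hcon
    push Not at hcon
    have h3 : hB.toFinset.erase (triv S) = ∅ := by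
      rw [Finset.eq_empty_iff_forall_notMem]
      intro θ hθ
      rw [Finset.mem_erase, Set.Finite.mem_toFinset] at hθ
      exact hθ.1 (hcon θ hθ.2)
    rw [h3, Finset.sum_empty, mul_zero, add_zero] at h0
    exact one_ne_zero h0

omit [Finite S] in
theorem commutator_top [IsSimpleGroup S] (hna : ¬ IsMulCommutative S) : commutator S = ⊤ := by
  rcases (inferInstance : (commutator S).Normal).eq_bot_or_eq_top with h | h
  · refine absurd ?_ hna
    rw [commutator_eq_bot_iff_center_eq_top] at h
    refine ⟨⟨fun a b => ?_⟩⟩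
    have h1 : b ∈ center S := h ▸ mem_top b
    exact mem_center_iff.1 h1 a
  · exact h

omit [Finite S] in
theorem eq_one_of_perf (hp : commutator S = ⊤) {χ : S → ℂ} (hχ : IsIrrCharacter S χ) (h1 : χ 1 = 1) : χ = 1 := by
  obtain ⟨f, hf⟩ := Characters.Linear.exists_hom_of_isIrrCharacter hχ h1
  have h2 : ∀ x : S, f x = 1 := by
    intro x
    have : commutator S ≤ f.ker := by
      rw [commutator_def, Subgroup.commutator_le]
      intro a _ b _
      rw [MonoidHom.mem_ker, map_commutatorElement]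
      exact commutatorElement_eq_one_iff_mul_comm.2 (mul_comm _ _)
    rw [hp] at this
    exact this (Subgroup.mem_top x)
  rw [hf]
  funext x
  simp [h2 x]

end

variable {G : Type u} [Group G] [Finite G] {M : Ideal AlgInt}

/-- **RED-C** -/
theorem redC (hM : IsPModular 2 M) (h : Five M G) (hcore : pPrimeCore 2 G = ⊥)
    (hNI : ∀ H : Subgroup G, H.index ≠ 2) {S : Subgroup G} (hS : S.Normal) (hs : IsSimpleGroup S)
    (hna : ¬ IsMulCommutative S) : Odd S.index := by
  classical
  have : Fact (Nat.Prime 2) := ⟨Nat.prime_two⟩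
  have hfG := Fintype.ofFinite G
  have hfS := Fintype.ofFinite S
  have hirr : Finite (IrrCharacter G) := Characters.Core.finite_irr
  by_contra hodd
  rw [Nat.not_odd_iff_even, even_iff_two_dvd] at hodd
  -- `|S|` is even
  have h2S : 2 ∣ Nat.card S := by
    by_contra hc
    have h1 : S ≤ pPrimeCore 2 G :=
      le_sSup ⟨hS, Nat.Coprime.symm ((Nat.Prime.coprime_iff_not_dvd Nat.prime_two).2 hc)⟩
    rw [hcore, le_bot_iff] at h1
    have h2 : Nontrivial S := hs.toNontrivial
    rw [h1] at h2
    exact not_subsingleton _ (inferInstance : Subsingleton (⊥ : Subgroup G))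
  obtain ⟨x, hx⟩ := exists_prime_orderOf_dvd_card' 2 h2S
  have hperf : commutator S = ⊤ := commutator_top hna
  -- a nontrivial character of `B₀(S)` lies under a character of `B₀(G)` which is nontrivial on `S`
  have hover : ∀ θ ∈ principalBlock M S, θ ≠ triv S → ∃ χ ∈ principalBlock M G,
      (∃ s : S, (χ : G → ℂ) s ≠ (χ : G → ℂ) 1) ∧ classInner (fun n : S => (χ : G → ℂ) n) (θ : S → ℂ) ≠ 0 := by
    intro θ hθ hne
    obtain ⟨χ, hχ, hin⟩ := H684.CoverCount.exists_over hM S θ hθ
    refine ⟨χ, hχ, ?_, hin⟩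
    by_contra hcon
    push Not at hcon
    apply hin
    have h1 : (fun n : S => (χ : G → ℂ) n) = (χ : G → ℂ) 1 • (1 : S → ℂ) := by
      funext n
      rw [hcon n]
      simp
    rw [h1, Characters.Core.classInner_smul_left,
      Characters.Core.classInner_irr_ne Characters.Core.isIrr_one θ.2 (fun h => hne (Subtype.ext h.symm)), mul_zero]
  -- inflation
  let f : principalBlock M (G ⧸ S) → principalBlock M G := fun ψ =>
    ⟨infl (QuotientGroup.mk' S) (QuotientGroup.mk'_surjective S) ψ.1,
      infl_mem hM (QuotientGroup.mk' S) (QuotientGroup.mk'_surjective S) ψ.2⟩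
  have hf : Function.Injective f := fun ψ ψ' h =>
    Subtype.ext (infl_injective _ (QuotientGroup.mk'_surjective S) (congrArg Subtype.val h))
  have hftriv : ∀ ψ (s : S), ((f ψ).1 : G → ℂ) s = ((f ψ).1 : G → ℂ) 1 := by
    intro ψ s
    show (ψ.1 : G ⧸ S → ℂ) (QuotientGroup.mk' S (s : G)) = (ψ.1 : G ⧸ S → ℂ) (QuotientGroup.mk' S 1)
    have h1 : QuotientGroup.mk' S (s : G) = 1 := (QuotientGroup.eq_one_iff (s : G)).2 s.2
    rw [h1, map_one]
  have hfin : Finite (principalBlock M G) := finite_principal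
  -- degrees
  have hdeg := degree_one (S := S) hM (x := x) (by rw [hx])
  -- the number of characters of `B₀(G/S)`
  have hk4 : Nat.card (principalBlock M (G ⧸ S)) ≤ 4 := by
    by_contra hcon
    have h1 : Nat.card (principalBlock M (G ⧸ S)) = Nat.card (principalBlock M G) := by
      have h2 := Nat.card_le_card_of_injective f hf
      rw [h.card] at h2 ⊢
      omega
    have hsurj : Function.Surjective f := ((Nat.bijective_iff_injective_and_card f).2 ⟨hf, h1⟩).2
    obtain ⟨-, θ, hθ, hne⟩ := hdeg 1 (by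
      intro θ hθ hne
      obtain ⟨χ, hχ, ⟨s, hs1⟩, -⟩ := hover θ hθ hne
      obtain ⟨ψ, hψ⟩ := hsurj ⟨χ, hχ⟩
      refine absurd ?_ hs1
      have h3 := hftriv ψ s
      rw [hψ] at h3
      exact h3)
    obtain ⟨χ, hχ, ⟨s, hs1⟩, -⟩ := hover θ hθ hne
    obtain ⟨ψ, hψ⟩ := hsurj ⟨χ, hχ⟩
    refine absurd ?_ hs1
    have h3 := hftriv ψ s
    rw [hψ] at h3
    exact h3
  have hdvd : 2 ∣ Nat.card (G ⧸ S) := hodd
  rcases (by omega : Nat.card (principalBlock M (G ⧸ S)) ≤ 2 ∨ Nat.card (principalBlock M (G ⧸ S)) = 3 ∨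
    Nat.card (principalBlock M (G ⧸ S)) = 4) with hk | hk | hk
  · obtain ⟨H, hH⟩ := exists_index_two (compl_of_le_two hM hdvd hk) hdvd
    exact hNI (H.comap (QuotientGroup.mk' S)) (by rw [index_comap_of_surjective _ (QuotientGroup.mk'_surjective S), hH])
  · have D : Sylow 2 (G ⧸ S) := default
    have h1 := S4614.result 2 M hM hk D
    obtain ⟨n, hn⟩ := D.2.exists_card_eq
    rw [hn] at h1
    rcases n with _ | n
    · norm_num at h1
    · rw [pow_succ] at h1
      omega
  · -- exactly one character is nontrivial on `S`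
    have huniq : ∀ χ ∈ principalBlock M G, ∀ χ' ∈ principalBlock M G, (∃ s : S, (χ : G → ℂ) s ≠ (χ : G → ℂ) 1) →
        (∃ s : S, (χ' : G → ℂ) s ≠ (χ' : G → ℂ) 1) → χ = χ' := by
      intro χ hχ χ' hχ' ⟨s, hs1⟩ ⟨s', hs1'⟩
      by_contra hne
      -- otherwise `f` extends to an injection of a set with six elements
      let g : principalBlock M (G ⧸ S) ⊕ Fin 2 → principalBlock M G :=
        Sum.elim f ![⟨χ, hχ⟩, ⟨χ', hχ'⟩]
      have hg : Function.Injective g := by
        have ha : ∀ ψ, f ψ ≠ ⟨χ, hχ⟩ := by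
          intro ψ hψ
          have h3 := hftriv ψ s
          rw [hψ] at h3
          exact hs1 h3
        have hb : ∀ ψ, f ψ ≠ ⟨χ', hχ'⟩ := by
          intro ψ hψ
          have h3 := hftriv ψ s'
          rw [hψ] at h3
          exact hs1' h3
        have hc : (⟨χ, hχ⟩ : principalBlock M G) ≠ ⟨χ', hχ'⟩ := fun h => hne (congrArg Subtype.val h)
        rintro (ψ | i) (ψ' | j) hij
        · exact congrArg Sum.inl (hf hij)
        · fin_cases j
          · exact absurd hij (ha ψ)
          · exact absurd hij (hb ψ)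
        · fin_cases i
          · exact absurd hij.symm (ha ψ')
          · exact absurd hij.symm (hb ψ')
        · fin_cases i <;> fin_cases j
          · rfl
          · exact absurd hij hc
          · exact absurd hij.symm hc
          · rfl
      have h1 := Nat.card_le_card_of_injective g hg
      have hfin' : Finite (principalBlock M (G ⧸ S)) := finite_principal
      rw [Nat.card_sum, hk, h.card, Nat.card_eq_fintype_card, Fintype.card_fin] at h1
      omega
    by_cases hex : ∃ θ₀ ∈ principalBlock M S, θ₀ ≠ triv S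
    · obtain ⟨θ₀, hθ₀, hne₀⟩ := hex
      obtain ⟨χ₀, hχ₀, hn₀, hin₀⟩ := hover θ₀ hθ₀ hne₀
      obtain ⟨d, -, hd⟩ := Characters.Core.isIrr_apply_one θ₀.2
      have hall : ∀ θ ∈ principalBlock M S, θ ≠ triv S → (θ : S → ℂ) 1 = d := by
        intro θ hθ hne
        obtain ⟨χ, hχ, hn, hin⟩ := hover θ hθ hne
        obtain rfl := huniq χ hχ χ₀ hχ₀ hn hn₀
        obtain ⟨g, hg⟩ := Characters.Clifford.exists_conj_of_constituents S χ.2 θ₀.2 θ.2 hin₀ hin
        rw [hg, ← hd]
        simp
      obtain ⟨rfl, -⟩ := hdeg d hall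
      exact hne₀ (Subtype.ext (eq_one_of_perf hperf θ₀.2 (by rw [hd]; simp)))
    · push Not at hex
      obtain ⟨-, θ, hθ, hne⟩ := hdeg 1 (fun θ hθ hne => absurd (hex θ hθ) hne)
      exact hne (hex θ hθ)

end Cfsg.Agent.H270.K5
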